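import Cfsg.Agent.H6.Ly.H.Main

set_option autoImplicit false
set_option maxRecDepth 100000
set_option Elab.async false

namespace Cfsg.H6.Ly.D2

def c0 : Clm := ⟨0, 0, false, [], [1], 0, [], []⟩
def c1 : Clm := ⟨0, 0, false, [], [3], 0, [], []⟩
def c2 : Clm := ⟨0, 0, false, [], [5], 0, [], []⟩
def c3 : Clm := ⟨0, 0, false, [], [7], 0, [], []⟩
def c4 : Clm := ⟨0, 1, true, [], [], 1, [], []⟩
def c5 : Clm := ⟨1, 0, true, [], [11,11], 5, [([], 4, [])], []⟩
def c6 : Clm := ⟨0, 1, true, [11,11], [11,11], 5, [([], 5, [])], []⟩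
def c7 : Clm := ⟨1, 1, false, [], [11,11], 3, [([], 4, []), ([3,7,4,2,5,5,1,1,4,3,4,4,6,2], 4, [11,11])], []⟩
def c8 : Clm := ⟨1, 1, false, [], [14,19,12,25,16], 3, [([], 4, []), ([2,1,7,5,6,4,1,6,3,0,3,4,6], 4, [20,13,11,16])], []⟩
def c9 : Clm := ⟨1, 1, false, [], [22,15,23,13,21,12], 3, [([], 4, []), ([7,5,7,5,2,4,2,7,3,1,2,5,0,5,6], 4, [20,16,24,14,12,21])], []⟩
def c10 : Clm := ⟨1, 1, true, [16,14,12,3], [12,12,3], 13, [([], 6, [12,12]), ([2], 5, [11,13,15])], []⟩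
def c11 : Clm := ⟨1, 1, true, [61], [23,12,16,22,16,70], 19, [([], 6, [12,12]), ([6,4,2,1,4,6], 5, [23,12,16,22,16])], []⟩
def c12 : Clm := ⟨1, 1, true, [23,12,16,22,16,70], [25,19,11,25,15,13,61], 5, [([], 11, [])], []⟩
def c13 : Clm := ⟨1, 2, true, [8], [], 1, [], []⟩
def c14 : Clm := ⟨2, 1, true, [], [11,11,7], 5, [([], 13, [])], []⟩
def c15 : Clm := ⟨1, 2, true, [11,11,7], [11,11], 5, [([], 14, [])], []⟩
def c16 : Clm := ⟨2, 2, false, [], [15,14], 3, [([], 13, []), ([17,18,18,15,17,17,17,15,19,17], 13, [15,14])], []⟩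
def c17 : Clm := ⟨2, 2, false, [], [13,15,14,12], 3, [([], 13, []), ([19,15,19,17,18,17,19,19,15,18], 13, [13,15,14,12])], []⟩
def c18 : Clm := ⟨2, 2, false, [], [11,13,16], 3, [([], 13, []), ([17,19,17,18,17,15,18,17,17,18], 13, [12,14,16])], []⟩
def c19 : Clm := ⟨2, 2, true, [22,26,26,61], [19,23,14,26,11,16,70], 19, [([], 15, [12,12,24]), ([16,14,19,16,19,16], 14, [19,23,14,26,11,16])], []⟩
def c20 : Clm := ⟨2, 2, true, [19,23,14,26,11,16,70], [19,11,15,22,13,19,61], 5, [([], 19, [])], []⟩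
def c21 : Clm := ⟨2, 1, true, [11,11,37], [20,13,15,13,22,20,7], 27, [([], 15, [12,12]), ([], 6, []), ([4,2,4,6,3,3,4,6,2], 5, [20,13,16,14,21,19])], []⟩
def c22 : Clm := ⟨1, 2, true, [20,13,15,13,22,20,7], [15,13,11,37], 5, [([], 21, [])], []⟩
def c23 : Clm := ⟨2, 2, false, [15,13,11,37], [15,14,12,38], 3, [([], 22, []), ([15,19,19,17,17,18], 13, [12,12])], []⟩
def c24 : Clm := ⟨2, 2, true, [14,12,26,19,19,37], [15,25,12,16,64], 33, [([], 15, [24,12,23,12,14]), ([15,17,19,14], 12, [23,15,24,14,12]), ([15,16,16,18,18], 14, [15,25,12,16])], []⟩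
def c25 : Clm := ⟨2, 2, true, [15,25,12,16,64], [19,13,16,26,11,13,22,11,37], 5, [([], 24, [])], []⟩
def c26 : Clm := ⟨2, 2, true, [12,24,12,25,14,37], [11,24,15,19,13,11,66,59], 33, [([], 15, [14,21,11,24]), ([14,16,16,14,19,19], 14, [19,27,14,21,14]), ([33,37], 25, [11,11,15,20,15])], []⟩
def c27 : Clm := ⟨1, 3, true, [10,8], [], 1, [], []⟩
def c28 : Clm := ⟨3, 1, true, [], [20,11,20,15,26,13,3,9,7], 5, [([], 27, [])], []⟩
def c29 : Clm := ⟨1, 3, true, [20,11,20,15,26,13,3,9,7], [11,11], 5, [([], 28, [])], []⟩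
def c30 : Clm := ⟨3, 3, false, [], [13,16,22,26,12], 3, [([], 27, []), ([14,18,15,19,19,15,17,17,18], 27, [14,12,25,15])], []⟩
def c31 : Clm := ⟨3, 3, false, [], [11,13,11,15,14,12], 3, [([], 27, []), ([15,16,15,18,15,17,19,15,17,18], 27, [11,13,11,15,14,12])], []⟩
def c32 : Clm := ⟨3, 3, false, [], [11,26,15,13], 3, [([], 27, []), ([18,14,16,14,17,15,16,19,15], 27, [15,21,25,11,13])], []⟩
def c33 : Clm := ⟨3, 3, true, [16,14,12,3], [13,16,25,12,3], 13, [([], 29, [12,12]), ([15,19,17,14,18,14], 28, [20,11,26,11,15,13])], []⟩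
def c34 : Clm := ⟨3, 2, true, [23,15,20,16,61], [23,12,26,16,14,70], 19, [([], 29, [12,12,22]), ([15,19,19,19,15,18], 14, [23,12,26,16,14])], []⟩
def c35 : Clm := ⟨2, 3, true, [23,12,26,16,14,70], [21,11,23,27,15,13,61], 5, [([], 34, [])], []⟩
def c36 : Clm := ⟨3, 3, false, [21,11,23,27,15,13,61], [20,14,16,26,37,47,15], 3, [([], 35, []), ([47,35,46,33,47,34,46], 35, [20,13,16,23,22])], []⟩
def c37 : Clm := ⟨3, 2, true, [11,11,11,61], [24,11,13,15,12,70], 19, [([], 29, [12,12,12]), ([14,18,14,16,18], 14, [24,11,13,15,12])], []⟩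
def c38 : Clm := ⟨2, 3, true, [24,11,13,15,12,70], [19,23,16,14,26,20,61], 5, [([], 37, [])], []⟩
def c39 : Clm := ⟨3, 2, true, [19,23,16,14,26,20,61], [19,26,13,26,26,70], 5, [([], 38, [])], []⟩
def c40 : Clm := ⟨3, 1, true, [22,16,24,16,14,21,61], [11,28,13,11,15,26,13,11,41,62,49], 19, [([], 29, [21,21,14]), ([15,18,17,14], 12, [24,11,14,25,15])], []⟩
def c41 : Clm := ⟨1, 3, true, [11,28,13,11,15,26,13,11,41,62,49], [14,23,11,16,19,13,61], 5, [([], 40, [])], []⟩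
def c42 : Clm := ⟨3, 3, false, [14,23,11,16,19,13,61], [19,21,11,15,13,11,26,39,23], 3, [([], 41, []), ([14,17,19,14,14], 27, [28,13,11,15,25,14])], []⟩
def c43 : Clm := ⟨3, 3, true, [21,15,20,15,23,7], [27,15,24,24,15,7], 25, [([], 29, [12,21,12,24]), ([16,18,16,16,15,19,17], 14, [19,14,20,15,13,26,12]), ([33,47,33,46,32], 39, [19,11,15,24,21,13,12])], []⟩
def c44 : Clm := ⟨2, 3, true, [16,23,11,13,11,16,21,41,5,56], [11,13,11,24,15,24,7], 27, [([], 39, [15,26,13,22,19]), ([61,85,72], 29, [11,13,11,16,14,12,21,20]), ([18,18,14,14], 28, [11,14,12,23,15,23])], []⟩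
def c45 : Clm := ⟨3, 2, true, [11,13,11,24,15,24,7], [11,13,15,12,22,14,23,12,41,22], 5, [([], 44, [])], []⟩
def c46 : Clm := ⟨3, 3, true, [19,14,25,23,21,7], [15,24,24,15,24,7,47], 25, [([], 29, [21,21,14]), ([18,18,16,18,17], 14, [19,12,14,25,11,23,15]), ([35,46,34,47], 39, [22,11,23,16,21,13,11])], []⟩
def c47 : Clm := ⟨3, 3, true, [15,24,24,15,24,7,47], [22,16,24,16,14,21,7], 5, [([], 46, [])], []⟩
def c48 : Clm := ⟨3, 3, true, [19,24,28,12,7], [19,11,13,23,16,26,11,35,63,37], 25, [([], 29, [12,25]), ([18,17,14,16,18,18], 28, [20,13,23,11,14,21,15]), ([61,65,84,73,61], 47, [19,23,12,25,15,14,12])], []⟩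
def c49 : Clm := ⟨3, 3, true, [19,11,13,23,16,26,11,35,63,37], [16,22,26,11,15,7], 5, [([], 48, [])], []⟩
def c50 : Clm := ⟨2, 3, true, [20,25,12,24,26,13,3,63,58,23], [13,28,15,24,13,11,7], 27, [([], 45, [12,16,14,21,24,12]), ([60,84,72], 29, [11,23,26]), ([16,18,17,14,16], 28, [13,28,15,24,14,12])], []⟩
def c51 : Clm := ⟨3, 2, true, [13,28,15,24,13,11,7], [11,13,22,15,23,38,73,47], 5, [([], 50, [])], []⟩
def c52 : Clm := ⟨3, 3, true, [20,24,20,12,26,7], [19,13,16,20,21,12,14,38,49,1], 25, [([], 29, [12,21,20]), ([18,16,18,18,18], 14, [11,23,13,16,24,12,14]), ([47,36,34,36,46], 45, [11,19,13,11,19,15,14,12])], []⟩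
def c53 : Clm := ⟨1, 4, true, [42], [], 1, [], []⟩
def c54 : Clm := ⟨4, 1, true, [], [12,12,42], 5, [([], 53, [])], []⟩
def c55 : Clm := ⟨1, 4, true, [12,12,42], [11,11], 5, [([], 54, [])], []⟩
def c56 : Clm := ⟨4, 4, false, [], [11,11,13,15], 3, [([], 53, []), ([18,18,18,17,17,19,17,19,19,17,18,17], 53, [11,11,13,15])], []⟩
def c57 : Clm := ⟨4, 4, false, [], [15], 3, [([], 53, []), ([16,16,18,16,19,19,15,18,14,17,18], 53, [11,15,12])], []⟩
def c58 : Clm := ⟨4, 4, true, [16,14,12,3], [13,12,16,3], 13, [([], 55, [12,12]), ([17,14,16,16], 54, [15,14])], []⟩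
def c59 : Clm := ⟨4, 2, true, [11,11,11,11,3], [16,14,12,3], 13, [([], 55, [11,13,16]), ([], 14, [11,11])], []⟩
def c60 : Clm := ⟨2, 4, true, [16,14,12,3], [12,12,3], 5, [([], 59, [])], []⟩
def c61 : Clm := ⟨4, 4, true, [61], [21,15,13,12,25,15,70], 19, [([], 55, [12,12]), ([16,16,18,16,15,17,18], 54, [21,15,13,12,25,15])], []⟩
def c62 : Clm := ⟨4, 4, true, [21,15,13,12,25,15,70], [25,19,11,25,15,13,61], 5, [([], 61, [])], []⟩
def c63 : Clm := ⟨4, 2, true, [21,25,25,61], [15,22,14,24,16,70], 19, [([], 55, [12,12,23]), ([17,17,18,16,16,18], 14, [15,22,14,24,16])], []⟩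
def c64 : Clm := ⟨2, 4, true, [15,22,14,24,16,70], [22,28,11,15,20,13,61], 5, [([], 63, [])], []⟩
def c65 : Clm := ⟨4, 2, true, [22,28,11,15,20,13,61], [12,24,16,20,22,70], 5, [([], 64, [])], []⟩
def c66 : Clm := ⟨4, 4, true, [22,26,26,61], [21,15,14,26,11,14,70], 19, [([], 55, [12,12,24]), ([19,17,17,19,16,16], 54, [21,15,14,26,11,14])], []⟩
def c67 : Clm := ⟨4, 4, true, [20,21,23,23,26,61], [28,15,26,14,16,70], 19, [([], 55, [12,12,26]), ([19,17,17,19,15,16], 54, [28,15,26,14,16])], []⟩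
def c68 : Clm := ⟨4, 4, true, [28,15,26,14,16,70], [22,20,26,11,15,13,61], 5, [([], 67, [])], []⟩
def c69 : Clm := ⟨4, 3, true, [11,23,15,20,15,61], [20,26,11,24,70], 19, [([], 55, [12,21,12,12]), ([19,14,14,17,18,17], 28, [20,26,11,24])], []⟩
def c70 : Clm := ⟨3, 4, true, [20,26,11,24,70], [25,16,28,14,61], 5, [([], 69, [])], []⟩
def c71 : Clm := ⟨4, 3, true, [11,24,11,15,22,61], [19,22,11,13,25,12,16,70], 19, [([], 55, [12,22,12,16]), ([19,16,14,14,18,15], 28, [19,22,11,13,25,12,16])], []⟩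
def c72 : Clm := ⟨3, 4, true, [19,22,11,13,25,12,16,70], [24,11,23,25,13,61], 5, [([], 71, [])], []⟩
def c73 : Clm := ⟨4, 2, true, [11,11,7], [13,21,16,14,12,38], 25, [([], 55, [12,12]), ([16,19,14,19], 12, [14,19,15,12,22,13,12]), ([19,15,18,17,19], 14, [13,21,11,11])], []⟩
def c74 : Clm := ⟨2, 4, true, [13,21,16,14,12,38], [7], 5, [([], 73, [])], []⟩
def c75 : Clm := ⟨4, 4, false, [7], [11,13,11,15,42], 3, [([], 74, []), ([35,47,32], 60, [11,16,14,12])], []⟩
def c76 : Clm := ⟨4, 4, true, [21,11,11,25,7], [19,13,24,21,13,15,38,53], 25, [([], 55, [12,12,23]), ([19,17,19,19,14,16], 14, [13,11,23,23]), ([32,47,37,32], 65, [13,11,16,22,24,13,12])], []⟩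
def c77 : Clm := ⟨4, 4, true, [19,13,24,21,13,15,38,53], [21,25,25,7], 5, [([], 76, [])], []⟩
def c78 : Clm := ⟨4, 4, true, [15,19,19,15,23,7], [14,22,16,14,38], 25, [([], 55, [12,12,25]), ([18,18,14], 12, [20,12,14,24,25]), ([19,14,19,16,14,19], 54, [11,13,11,15,22,14,12])], []⟩
def c79 : Clm := ⟨4, 4, true, [14,22,16,14,38], [19,22,24,24,25,7], 5, [([], 78, [])], []⟩
def c80 : Clm := ⟨4, 3, true, [11,28,11,7], [19,12,14,21,16,22,3,72,65], 25, [([], 55, [28,12,12]), ([14,16,16,18,14,14], 28, [19,27,13,20,26,15]), ([84,73], 49, [20,26,11,15,14,12,23])], []⟩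
def c81 : Clm := ⟨3, 4, true, [19,12,14,21,16,22,3,72,65], [27,27,7], 5, [([], 80, [])], []⟩
def c82 : Clm := ⟨4, 3, true, [27,27,7], [19,12,14,21,16,22,3,72,65,29], 5, [([], 81, [])], []⟩
def c83 : Clm := ⟨2, 4, true, [19,25,15,21,13,15,7,24,38], [21,14,25,16,23,14,7], 27, [([], 65, [19,13,11,16,14,22,19]), ([150], 55, [22,22,15]), ([14,18,17,18,14,16], 54, [19,13,26,15,14,26])], []⟩
def c84 : Clm := ⟨4, 2, true, [21,14,25,16,23,14,7], [19,13,19,28,11,14,4,36,23], 5, [([], 83, [])], []⟩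
def c85 : Clm := ⟨4, 2, true, [24,27,13,25,13,7], [14,16,26,15,3,41,52], 25, [([], 55, [12,12,21,20]), ([18,18,18,17,19], 14, [13,22,23,16]), ([47,35,46,32], 20, [22,14,25,12,14,23])], []⟩
def c86 : Clm := ⟨2, 4, true, [14,16,26,15,3,41,52], [23,13,22,14,22,7], 5, [([], 85, [])], []⟩
def c87 : Clm := ⟨4, 4, false, [23,13,22,14,22,7], [11,11,13,15,75], 3, [([], 86, []), ([32,47,36,33], 64, [20,21,23,23,14])], []⟩
def c88 : Clm := ⟨4, 3, true, [15,20,15,23,7], [16,24,12,14,38], 25, [([], 55, [12,12,21,26]), ([18,18,14], 12, [24,12,22,19,14]), ([19,15,16,15,19], 28, [16,24,13,11,15])], []⟩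
def c89 : Clm := ⟨3, 4, true, [16,24,12,14,38], [22,12,25,27,11,7], 5, [([], 88, [])], []⟩
def c90 : Clm := ⟨4, 3, true, [22,12,25,27,11,7], [16,24,13,11,15,38], 5, [([], 89, [])], []⟩
def c91 : Clm := ⟨4, 4, true, [15,21,23,15,7], [20,16,25,27,12,74,16], 25, [([], 55, [12,12,23,21]), ([19,17,19,19,15,17], 54, [11,25,13,11,16,14,12]), ([114,114,113], 77, [11,13,15,12])], []⟩
def c92 : Clm := ⟨4, 4, true, [20,16,25,27,12,74,16], [15,21,23,16,7], 5, [([], 91, [])], []⟩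
def c93 : Clm := ⟨4, 4, true, [23,13,21,13,24,7], [25,12,23,13,11,15,14,12,36,52,52], 25, [([], 55, [12,12,23,26]), ([19,17,19,19,17,17], 54, [21,13,25,11,26,13]), ([174,114,175,114,112,174,112], 92, [19,26,24,13,11,15])], []⟩
def c94 : Clm := ⟨4, 4, true, [25,12,23,13,11,15,14,12,36,52,52], [21,16,19,22,15,7], 5, [([], 93, [])], []⟩
def c95 : Clm := ⟨4, 4, true, [15,26,14,21,16,35,61,59], [14,20,23,21,15,7], 27, [([114,114,174,115,174], 79, [19,21,26,11,11,19]), ([174,114,174,150], 55, [12,28,12,14,23]), ([19,19,19,16,16,14,16], 54, [19,15,24,15,24,13,15])], []⟩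
def c96 : Clm := ⟨3, 4, true, [16,25,13,12,22,15,63,62,52], [20,11,13,15,14,21,12,7], 27, [([], 82, [21,11,11,24,19]), ([114,114,174,114,174], 55, [16,25,19]), ([16,15,18,18,18], 54, [20,11,13,15,13,11,20])], []⟩
def c97 : Clm := ⟨4, 3, true, [20,11,13,15,14,21,12,7], [11,13,16,14,21,11,24,13,35,22,73], 5, [([], 96, [])], []⟩
def c98 : Clm := ⟨3, 4, true, [11,13,16,14,21,11,24,13,35,22,73], [20,11,14,16,14,22,11,7], 5, [([], 97, [])], []⟩
def c99 : Clm := ⟨4, 3, true, [19,23,13,19,13,7], [21,15,21,12,26,3,64,27,29], 25, [([], 55, [12,12,25,23]), ([17,17,19,16,15,19,16], 54, [25,11,26,13,15,13,12]), ([174,114,112,174,115,112], 98, [24,13,15,13,12,25])], []⟩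
def c100 : Clm := ⟨3, 4, true, [21,15,21,12,26,3,64,27,29], [19,23,13,19,14,7], 5, [([], 99, [])], []⟩
def c101 : Clm := ⟨3, 4, true, [14,16,24,19,12,73,36,25], [26,11,13,11,15,21,14,7], 27, [([], 90, [26,20,13,24,15]), ([150,174,115,174], 55, [28,13,15,20,13]), ([14,14,19,16,14,17,18], 54, [26,11,13,12,16,22,14])], []⟩
def c102 : Clm := ⟨4, 3, true, [26,11,13,11,15,21,14,7], [13,11,15,21,24,13,12,39,35,53], 5, [([], 101, [])], []⟩
def c103 : Clm := ⟨4, 4, true, [22,11,24,24,11,7], [26,23,13,11,15,14,39,39,26], 25, [([], 55, [28,12,12,25]), ([15,17,19,19,19,14], 28, [19,11,13,11,15,24,14]), ([85,73,61,85], 90, [11,13,16,14,12,21,20,13])], []⟩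
def c104 : Clm := ⟨4, 4, true, [24,26,11,25,13,15,38,21], [23,15,13,12,25,14,16,7], 27, [([114,114,174,115,174], 79, [22,26,11,27,14]), ([115,115,174,114,174], 55, [11,11,25,11]), ([14,16,15,18,16,16], 54, [23,15,13,12,25,13,15])], []⟩
def c105 : Clm := ⟨4, 4, true, [23,15,13,12,25,14,16,7], [22,24,14,24,14,66,2], 5, [([], 104, [])], []⟩
def c106 : Clm := ⟨4, 4, true, [19,24,28,12,7], [11,13,15,13,11,20,38], 25, [([], 55, [12,25]), ([15,17,18,14], 12, [19,26,27,15,14,12]), ([19,14,18,18,17,19,19], 54, [24,25,11,28,13])], []⟩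
def c107 : Clm := ⟨4, 4, true, [22,28,11,11,26,7], [23,13,16,21,11,74,64,36], 25, [([], 55, [12,28,12,24]), ([19,17,15,19,14,16], 54, [13,16,19,22,11,16]), ([114,175,114,174,150,174], 92, [27,12,16,14,24,12])], []⟩
def c108 : Clm := ⟨4, 3, true, [20,16,25,27,12,74,37], [19,13,11,15,23,14,7], 27, [([174,150,175,115,174,115,174], 92, [19,15,12,26,13,25,12]), ([115,174,114,174,114,174], 55, [20,23,14,16,19,14]), ([15,17,18,15], 28, [19,13,12,16,24,14])], []⟩
def c109 : Clm := ⟨3, 4, true, [19,13,11,15,23,14,7], [20,24,15,24,13,7,21,62], 5, [([], 108, [])], []⟩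
def c110 : Clm := ⟨4, 4, true, [19,16,24,21,13,15,38,41,65], [13,19,15,13,12,26,13,7], 27, [([115,115,115], 68, [21,11,13,11,24,20]), ([174,115,174,114,174], 55, [19,11,24,11,13]), ([16,14,18,14,18,17], 54, [13,19,16,14,12,25,13])], []⟩
def c111 : Clm := ⟨4, 4, true, [13,19,15,13,12,26,13,7], [19,16,24,21,13,41,24,38], 5, [([], 110, [])], []⟩

noncomputable def cl0 (y : ℕ) : Clm := (selA 8 y (selA 4 y (selA 2 y (selA 1 y c0 c1) (selA 3 y c2 c3)) (selA 6 y (selA 5 y c4 c5) (selA 7 y c6 c7))) (selA 12 y (selA 10 y (selA 9 y c8 c9) (selA 11 y c10 c11)) (selA 14 y (selA 13 y c12 c13) (selA 15 y c14 c15))))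

noncomputable def cl1 (y : ℕ) : Clm := (selA 24 y (selA 20 y (selA 18 y (selA 17 y c16 c17) (selA 19 y c18 c19)) (selA 22 y (selA 21 y c20 c21) (selA 23 y c22 c23))) (selA 28 y (selA 26 y (selA 25 y c24 c25) (selA 27 y c26 c27)) (selA 30 y (selA 29 y c28 c29) (selA 31 y c30 c31))))

noncomputable def cl2 (y : ℕ) : Clm := (selA 40 y (selA 36 y (selA 34 y (selA 33 y c32 c33) (selA 35 y c34 c35)) (selA 38 y (selA 37 y c36 c37) (selA 39 y c38 c39))) (selA 44 y (selA 42 y (selA 41 y c40 c41) (selA 43 y c42 c43)) (selA 46 y (selA 45 y c44 c45) (selA 47 y c46 c47))))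

noncomputable def cl3 (y : ℕ) : Clm := (selA 56 y (selA 52 y (selA 50 y (selA 49 y c48 c49) (selA 51 y c50 c51)) (selA 54 y (selA 53 y c52 c53) (selA 55 y c54 c55))) (selA 60 y (selA 58 y (selA 57 y c56 c57) (selA 59 y c58 c59)) (selA 62 y (selA 61 y c60 c61) (selA 63 y c62 c63))))

noncomputable def cl4 (y : ℕ) : Clm := (selA 72 y (selA 68 y (selA 66 y (selA 65 y c64 c65) (selA 67 y c66 c67)) (selA 70 y (selA 69 y c68 c69) (selA 71 y c70 c71))) (selA 76 y (selA 74 y (selA 73 y c72 c73) (selA 75 y c74 c75)) (selA 78 y (selA 77 y c76 c77) (selA 79 y c78 c79))))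

noncomputable def cl5 (y : ℕ) : Clm := (selA 88 y (selA 84 y (selA 82 y (selA 81 y c80 c81) (selA 83 y c82 c83)) (selA 86 y (selA 85 y c84 c85) (selA 87 y c86 c87))) (selA 92 y (selA 90 y (selA 89 y c88 c89) (selA 91 y c90 c91)) (selA 94 y (selA 93 y c92 c93) (selA 95 y c94 c95))))

noncomputable def cl6 (y : ℕ) : Clm := (selA 104 y (selA 100 y (selA 98 y (selA 97 y c96 c97) (selA 99 y c98 c99)) (selA 102 y (selA 101 y c100 c101) (selA 103 y c102 c103))) (selA 108 y (selA 106 y (selA 105 y c104 c105) (selA 107 y c106 c107)) (selA 110 y (selA 109 y c108 c109) (selA 111 y c110 c111))))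

noncomputable def cl (y : ℕ) : Clm := (selA 48 y (selA 16 y (cl0 y) (selA 32 y (cl1 y) (cl2 y))) (selA 80 y (selA 64 y (cl3 y) (cl4 y)) (selA 96 y (cl5 y) (cl6 y))))

def gwL : List (List ℕ) := [[], [77], [77,8,77], [77,10,8,77], [77,42,77]]

noncomputable def D : Dce where
  inv := 5381825076706105398496393365439695390822816392347292151119926404102975530075676048482267439894910561204322493318345072491623057037460813750783087536761323172684420524720552877937506708947456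
  m := 77
  T := 77
  TI := 78
  KL := [19,20,21,22,23,24,25,26,27,28,11,12,13,14,15,16]
  ax := [[1], [3], [5], [7]]
  sg := [[], [], [], [], [], [], [], [], [], [], [], [55], [56], [57], [58], [59], [60], [], [], [45], [46], [47], [48], [49], [50], [51], [52], [53], [54]]
  chk := fixB H.img 77 H.bs
  pats := [([], false), ([78,77], false), ([77], true), ([78,29], true), ([77,77,30], false), ([29,78], true), ([77,30,77], false), ([78,29], true), ([77,17,77,17,77,29,17], false), ([18,30,78,18,78,18], true), ([77,17,77,29,17,77,17], false), ([18,78,18,30,78,18], true), ([77,29,17,77,17,77,17], false), ([18,78,18,78,18,30], true), ([77,61,77,69,77,39], false), ([40,78,70,78,62], true), ([77,69,77,39,77,61], false), ([62,78,40,78,70], true), ([77,39,77,61,77,69], false), ([70,78,62,78,40], true), ([77,30,33,77,30,71,77,31,77,37], false), ([38,78,32,78,72,29,78,34,29], true), ([77,30,71,77,31,77,37,77,30,33], false), ([34,29,78,38,78,32,78,72,29],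 true), ([77,31,77,37,77,30,33,77,30,71], false), ([72,29,78,34,29,78,38,78,32], true), ([77,37,77,30,33,77,30,71,77,31], false), ([32,78,72,29,78,34,29,78,38], true), ([77,65,77,63,77,30,67,77,30,73], false), ([74,29,78,68,29,78,64,78,66], true), ([77,63,77,30,67,77,30,73,77,65], false), ([66,78,74,29,78,68,29,78,64], true), ([77,30,67,77,30,73,77,65,77,63], false), ([64,78,66,78,74,29,78,68,29], true), ([77,30,73,77,65,77,63,77,30,67], false), ([68,29,78,64,78,66,78,74,29], true), ([77,41,77,35,77,30,43,77,30,75], false), ([76,29,78,44,29,78,36,78,42], true), ([77,35,77,30,43,77,30,75,77,41], false), ([42,78,76,29,78,44,29,78,36], true), ([77,30,43,77,30,75,77,41,77,35], false), ([36,78,42,78,76,29,78,44,29], true), ([77,30,75,77,41,77,35,77,30,43], false), ([44,29,78,36,78,42,78,76,29], true)]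
  gw := nthW gwL
  cl := cl


end Cfsg.H6.Ly.D2
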